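import Groth.Agent.AlgSpLib.LocPCover
import Groth.Agent.AlgSpFin.OpenSubspace
import Groth.Agent.AlgSpFin.ImmersionTop
import Groth.Agent.AlgSpLimDesc.ImmStage
import Groth.Prelude.Def_AlgSpCov

/-!
The largest open subspace over which a morphism of algebraic spaces has a property local on the base.
-/

set_option autoImplicit false
set_option backward.isDefEq.respectTransparency.types false

universe u

open CategoryTheory CategoryTheory.Limits AlgebraicGeometry Opposite TopologicalSpace AlgSp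

namespace Groth.Agent.AlgSpLargestOpen

open Groth.Agent.AlgSpLib

variable {S : Scheme.{u}}

/-- Open immersions have the properties that etale morphisms have. -/
theorem locP_of_openImm {Q : MorphismProperty Scheme.{u}} [EtLocal Q] {F G : Sp S} (hG : IsAlgSpace G) {j : F ⟶ G}
    (hj : RepWith @IsOpenImmersion j) : LocP Q j :=
  (locP_iff_repWith hG hj.1).2 (repWith_mono (fun _ _ k hk => EtLocal.of_etale k (by
    have : IsOpenImmersion k := hk
    infer_instance)) hj)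

/-- The square of a factorization through a monomorphism. -/
theorem isPullback_id_of_mono {C : Type*} [Category C] {A G H : C} {g : A ⟶ H} {l : A ⟶ G} {j : G ⟶ H}
    [Mono j] (w : l ≫ j = g) : IsPullback (𝟙 A) l g j :=
  IsPullback.of_isLimit' ⟨by rw [Category.id_comp, w]⟩
    (PullbackCone.IsLimit.mk _ (fun s => s.fst) (fun s => Category.comp_id _)
      (fun s => by rw [← cancel_mono j, Category.assoc, w, s.condition])
      (fun s m h₁ _ => by simpa using h₁))

/-- The largest open over which a morphism has a property local on the base. -/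
theorem exists_largest_open {Q : MorphismProperty Scheme.{u}} [EtLocal Q]
    (hQ : ∀ ⦃A B : Scheme.{u}⦄ (k : A ⟶ B), Q k → IsOpenMap k)
    (T : MorphismProperty (Sp S)) (hT : ∀ ⦃F G : Sp S⦄ (g : F ⟶ G), IsAlgSpace G → (T g ↔ LocP Q g))
    {P : MorphismProperty (Sp S)}
    (hP : IsLocalOnBase (fun _ _ Y g => IsCover T Y g) P) {X Y : Space S} (f : X ⟶ Y) :
    ∃ W : TopologicalSpace.Opens (Points Y.obj),
      (∀ (W₀ X₀ : Space S) (j₀ : W₀ ⟶ Y) (j₀' : X₀ ⟶ X) (f₀ : X₀ ⟶ W₀),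
        RepWith @IsOpenImmersion j₀.hom → Set.range (Points.map j₀.hom) = (W : Set (Points Y.obj)) →
        IsPullback j₀'.hom f₀.hom f.hom j₀.hom → P f₀.hom) ∧
      (∀ V : TopologicalSpace.Opens (Points Y.obj),
        (∀ (W₁ X₁ : Space S) (j₁ : W₁ ⟶ Y) (j₁' : X₁ ⟶ X) (f₁ : X₁ ⟶ W₁),
        RepWith @IsOpenImmersion j₁.hom → Set.range (Points.map j₁.hom) = (V : Set (Points Y.obj)) →
        IsPullback j₁'.hom f₁.hom f.hom j₁.hom → P f₁.hom) → V ≤ W) ∧
      (∀ (Y' X' : Space S) (g : Y' ⟶ Y) (g' : X' ⟶ X) (f' : X' ⟶ Y'),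
        T g.hom → IsPullback g'.hom f'.hom f.hom g.hom → P f'.hom →
        Set.range (Points.map g.hom) ⊆ (W : Set (Points Y.obj))) ∧
      (∀ (Y' X' : Space S) (g : Y' ⟶ Y) (g' : X' ⟶ X) (f' : X' ⟶ Y'),
        T g.hom → IsPullback g'.hom f'.hom f.hom g.hom →
        ∀ W' : TopologicalSpace.Opens (Points Y'.obj),
          (∀ (W₂ X₂ : Space S) (j₂ : W₂ ⟶ Y') (j₂' : X₂ ⟶ X') (f₂ : X₂ ⟶ W₂),
        RepWith @IsOpenImmersion j₂.hom → Set.range (Points.map j₂.hom) = (W' : Set (Points Y'.obj)) →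
        IsPullback j₂'.hom f₂.hom f'.hom j₂.hom → P f₂.hom) →
          (∀ V' : TopologicalSpace.Opens (Points Y'.obj),
            (∀ (W₃ X₃ : Space S) (j₃ : W₃ ⟶ Y') (j₃' : X₃ ⟶ X') (f₃ : X₃ ⟶ W₃),
        RepWith @IsOpenImmersion j₃.hom → Set.range (Points.map j₃.hom) = (V' : Set (Points Y'.obj)) →
        IsPullback j₃'.hom f₃.hom f'.hom j₃.hom → P f₃.hom) → V' ≤ W') →
          (W' : Set (Points Y'.obj)) = Points.map g.hom ⁻¹' (W : Set (Points Y.obj))) := by
  -- the candidate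
  let Good : Set (Points Y.obj) := {y | ∃ (Y' X' : Space S) (g : Y'.obj ⟶ Y.obj) (g' : X'.obj ⟶ X.obj)
    (f' : X'.obj ⟶ Y'.obj), LocP Q g ∧ IsPullback g' f' f.hom g ∧ P f' ∧ y ∈ Set.range (Points.map g)}
  have hopen : IsOpen Good := by
    rw [isOpen_iff_forall_mem_open]
    rintro y ⟨Y', X', g, g', f', hg, sq, hp, hy⟩
    exact ⟨_, fun z hz => ⟨Y', X', g, g', f', hg, sq, hp, hz⟩,
      (isOpenMap_map_of_locP Y'.property Y.property hg hQ).isOpen_range, hy⟩
  -- covers of an open subspace inside the candidate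
  have cover : ∀ (W₀ X₀ : Space S) (j₀ : W₀.obj ⟶ Y.obj) (j₀' : X₀.obj ⟶ X.obj) (f₀ : X₀.obj ⟶ W₀.obj),
      RepWith @IsOpenImmersion j₀ → Set.range (Points.map j₀) = Good → IsPullback j₀' f₀ f.hom j₀ →
      ∃ (ι : Type u) (Yi Xi : ι → Sp S) (gi : ∀ i, Yi i ⟶ W₀.obj) (pi : ∀ i, Xi i ⟶ Yi i)
        (qi : ∀ i, Xi i ⟶ X₀.obj), (∀ i, IsAlgSpace (Yi i)) ∧ (∀ i, IsAlgSpace (Xi i)) ∧ (∀ i, LocP Q (gi i)) ∧
        (∀ w, ∃ i, w ∈ Set.range (Points.map (gi i))) ∧ (∀ i, IsPullback (qi i) (pi i) f₀ (gi i)) ∧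
        ∀ i, P (pi i) := by
    intro W₀ X₀ j₀ j₀' f₀ hj₀ hr sq₀
    obtain ⟨U, a, -, has⟩ := W₀.property.atlas
    have := AlgSpLimDesc.mono_of_repWith_isOpenImmersion hj₀
    have key : ∀ t : U.left, ∃ (Y' X' : Space S) (g₀ : Y'.obj ⟶ W₀.obj) (p : X'.obj ⟶ Y'.obj) (q : X'.obj ⟶ X₀.obj),
        LocP Q g₀ ∧ Points.ofPt a t ∈ Set.range (Points.map g₀) ∧ IsPullback q p f₀ g₀ ∧ P p := by
      intro t
      obtain ⟨Y', X', g, g', f', hg, sq, hp, z, hz⟩ := hr.le ⟨Points.ofPt a t, rfl⟩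
      have hgr : ∀ w, Points.map g w ∈ Good := fun w => ⟨Y', X', g, g', f', hg, sq, hp, w, rfl⟩
      obtain ⟨g₀, hg₀⟩ := AlgSpLimDesc.exists_factor_sp hj₀ g fun w => hr.ge (hgr w)
      refine ⟨Y', X', g₀, f', sq₀.lift g' (f' ≫ g₀) (by rw [sq.w, Category.assoc, hg₀]),
        locP_baseChange Y'.property Y.property W₀.property (isPullback_id_of_mono hg₀) hg, ⟨z, ?_⟩, ?_, hp⟩
      · exact (AlgSpFin.injective_map_of_mono j₀) (by rw [← Points.map_comp, hg₀]; exact hz)
      · refine IsPullback.of_right ?_ (sq₀.lift_snd _ _ _) sq₀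
        rw [sq₀.lift_fst, hg₀]
        exact sq
    choose Y' X' g₀ p q h1 h2 h3 h4 using key
    refine ⟨U.left, fun t => (Y' t).obj, fun t => (X' t).obj, g₀, p, q, fun t => (Y' t).property,
      fun t => (X' t).property, h1, fun w => ?_, h3, h4⟩
    obtain ⟨t, rfl⟩ := surjective_ofPt has w
    exact ⟨t, h2 t⟩
  have sub : ∀ (W₀ X₀ : Space S) (j₀ : W₀.obj ⟶ Y.obj) (j₀' : X₀.obj ⟶ X.obj) (f₀ : X₀.obj ⟶ W₀.obj),
      RepWith @IsOpenImmersion j₀ → Set.range (Points.map j₀) = Good → IsPullback j₀' f₀ f.hom j₀ → P f₀ := by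
    intro W₀ X₀ j₀ j₀' f₀ hj₀ hr sq₀
    obtain ⟨ι, Yi, Xi, gi, pi, qi, hYi, hXi, hgi, hs, hsq, hpi⟩ := cover W₀ X₀ j₀ j₀' f₀ hj₀ hr sq₀
    exact (hP Yi gi W₀.property hYi ⟨fun i => (hT _ W₀.property).2 (hgi i), hs⟩ f₀ X₀.property Xi pi qi hXi
      hsq).2 hpi
  refine ⟨⟨Good, hopen⟩, fun W₀ X₀ j₀ j₀' f₀ hj hr sq => sub W₀ X₀ _ _ _ hj hr sq,
    fun V hV => ?_, fun Y' X' g g' f' hg sq hp => ?_, fun Y' X' g g' f' hg sq W' hW' hmax => ?_⟩
  · obtain ⟨W₁, j, hj, hr⟩ := AlgSpFin.exists_open_subspace Y V.1 V.2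
    let s := IsPullback.of_hasPullback f.hom j.hom
    have hp := hV W₁ ⟨_, isAlgSpace_of_isPullback s X.property W₁.property Y.property⟩ j
      (ObjectProperty.homMk (pullback.fst f.hom j.hom)) (ObjectProperty.homMk (pullback.snd f.hom j.hom)) hj hr s
    intro y hy
    exact ⟨W₁, ⟨_, isAlgSpace_of_isPullback s X.property W₁.property Y.property⟩, j.hom, _, _,
      locP_of_openImm Y.property hj, s, hp, hr.ge hy⟩
  · rintro y hy
    exact ⟨Y', X', g.hom, g'.hom, f'.hom, (hT _ Y.property).1 hg, sq, hp, hy⟩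
  · have hgQ := (hT _ Y.property).1 hg
    apply le_antisymm
    · intro y hy
      obtain ⟨W₂, j, hj, hr⟩ := AlgSpFin.exists_open_subspace Y' W'.1 W'.2
      let s := IsPullback.of_hasPullback f'.hom j.hom
      have hX₂ := isAlgSpace_of_isPullback s X'.property W₂.property Y'.property
      have hp := hW' W₂ ⟨_, hX₂⟩ j (ObjectProperty.homMk (pullback.fst f'.hom j.hom))
        (ObjectProperty.homMk (pullback.snd f'.hom j.hom)) hj hr s
      obtain ⟨w, rfl⟩ := hr.ge hy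
      exact ⟨W₂, ⟨_, hX₂⟩, j.hom ≫ g.hom, _, _, locP_comp W₂.property Y'.property Y.property
        (locP_of_openImm Y'.property hj) hgQ, s.paste_horiz sq, hp, w, Points.map_comp _ _ w⟩
    · refine hmax ⟨_, hopen.preimage (Points.continuous_map g.hom)⟩ fun W₃ X₃ j₃ j₃' f₃ hj₃ hr₃ s₃ => ?_
      obtain ⟨W₀, j₀, hj₀, hr₀⟩ := AlgSpFin.exists_open_subspace Y Good hopen
      have := AlgSpLimDesc.mono_of_repWith_isOpenImmersion hj₀
      obtain ⟨h, hh⟩ := AlgSpLimDesc.exists_factor_sp hj₀ (j₃.hom ≫ g.hom) fun z => by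
        rw [hr₀, Points.map_comp]
        exact hr₃.le ⟨z, rfl⟩
      have hhQ : LocP Q h := locP_baseChange W₃.property Y.property W₀.property (isPullback_id_of_mono hh)
        (locP_comp W₃.property Y'.property Y.property (locP_of_openImm Y'.property hj₃) hgQ)
      let s₀ := IsPullback.of_hasPullback f.hom j₀.hom
      have hX₀ := isAlgSpace_of_isPullback s₀ X.property W₀.property Y.property
      have sbig : IsPullback (j₃'.hom ≫ g'.hom) f₃.hom f.hom (h ≫ j₀.hom) := by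
        rw [hh]
        exact s₃.paste_horiz sq
      let q := s₀.lift (j₃'.hom ≫ g'.hom) (f₃.hom ≫ h) (by rw [sbig.w, Category.assoc])
      have sq₃ : IsPullback q f₃.hom (pullback.snd f.hom j₀.hom) h := by
        refine IsPullback.of_right ?_ (s₀.lift_snd _ _ _) s₀
        rw [s₀.lift_fst]
        exact sbig
      obtain ⟨ι, Yi, Xi, gi, pi, qi, hYi, hXi, hgi, hs, hsq, hpi⟩ :=
        cover W₀ ⟨_, hX₀⟩ j₀.hom (pullback.fst _ _) (pullback.snd _ _) hj₀ hr₀ s₀
      let Yo : Option ι → Sp S := fun o => Option.elim o W₃.obj Yi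
      let go : ∀ o, Yo o ⟶ W₀.obj := fun o => match o with
        | none => h
        | some i => gi i
      let Xo : Option ι → Sp S := fun o => Option.elim o X₃.obj Xi
      let po : ∀ o, Xo o ⟶ Yo o := fun o => match o with
        | none => f₃.hom
        | some i => pi i
      let qo : ∀ o, Xo o ⟶ pullback f.hom j₀.hom := fun o => match o with
        | none => q
        | some i => qi i
      refine (hP Yo go W₀.property ?_ ⟨?_, fun w => ?_⟩ _ hX₀ Xo po qo ?_ ?_).1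
        (sub W₀ ⟨_, hX₀⟩ _ _ _ hj₀ hr₀ s₀) none
      · rintro (_ | i)
        exacts [W₃.property, hYi i]
      · rintro (_ | i)
        exacts [(hT _ W₀.property).2 hhQ, (hT _ W₀.property).2 (hgi i)]
      · obtain ⟨i, hi⟩ := hs w
        exact ⟨some i, hi⟩
      · rintro (_ | i)
        exacts [X₃.property, hXi i]
      · rintro (_ | i)
        exacts [sq₃, hsq i]

end Groth.Agent.AlgSpLargestOpen
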