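import Groth.Agent.AlgSpLib.LocPCover
import Groth.Agent.AlgSpLib.FpqcTest
import Groth.Prelude.Def_AlgSpCov

/-!
Elementary operations on fpqc coverings of algebraic spaces.
-/

set_option autoImplicit false
set_option backward.isDefEq.respectTransparency.types false

universe u

open CategoryTheory CategoryTheory.Limits AlgebraicGeometry Opposite AlgSp

namespace Groth.Agent.AlgSpLargestOpen

open Groth.Agent.AlgSpLib

variable {S : Scheme.{u}}

/-- Standard fpqc coverings whose members can be refined give a standard fpqc covering. -/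
theorem exists_refinement_trans {Z : Over S} (R : ∀ W : Over S, (W ⟶ Z) → Prop) {m : ℕ} {W : Fin m → Over S}
    {c : ∀ j, W j ⟶ Z} (hf : ∀ j, Flat (c j).left) (hs : ∀ z : ↥Z.left, ∃ j, z ∈ Set.range (c j).left)
    (h : ∀ j, ∃ (n : ℕ) (V : Fin n → Over S) (d : ∀ k, V k ⟶ W j),
      (∀ k, IsAffine (V k).left) ∧ (∀ k, Flat (d k).left) ∧
      (∀ z : ↥(W j).left, ∃ k, z ∈ Set.range (d k).left) ∧ ∀ k, R (V k) (d k ≫ c j)) :
    ∃ (n : ℕ) (V : Fin n → Over S) (d : ∀ k, V k ⟶ Z),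
      (∀ k, IsAffine (V k).left) ∧ (∀ k, Flat (d k).left) ∧
      (∀ z : ↥Z.left, ∃ k, z ∈ Set.range (d k).left) ∧ ∀ k, R (V k) (d k) := by
  choose n V d hA hF hS hR using h
  let e : Fin (∑ j, n j) ≃ Σ j, Fin (n j) := finSigmaFinEquiv.symm
  refine ⟨∑ j, n j, fun r => V (e r).1 (e r).2, fun r => d (e r).1 (e r).2 ≫ c (e r).1,
    fun r => hA _ _, fun r => ?_, fun z => ?_, fun r => hR _ _⟩
  · have := hf (e r).1
    have := hF (e r).1 (e r).2
    rw [Over.comp_left]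
    infer_instance
  · obtain ⟨j, w, rfl⟩ := hs z
    obtain ⟨k, v, rfl⟩ := hS j w
    obtain ⟨r, hr⟩ := e.surjective ⟨j, k⟩
    refine ⟨r, ?_⟩
    suffices h : ∀ s : Σ j, Fin (n j), s = ⟨j, k⟩ →
        (c j).left ((d j k).left v) ∈ Set.range (d s.1 s.2 ≫ c s.1).left from h _ hr
    rintro s rfl
    exact ⟨v, by rw [Over.comp_left, Scheme.Hom.comp_apply]⟩

/-- Base change of an fpqc covering. -/
theorem isFpqcCover_baseChange {ι : Type u} {X X' : Sp S} (hX : IsAlgSpace X) (hX' : IsAlgSpace X')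
    {a : X' ⟶ X} {Xi Xi' : ι → Sp S} (hXi : ∀ i, IsAlgSpace (Xi i)) {g : ∀ i, Xi i ⟶ X}
    {q : ∀ i, Xi' i ⟶ X'} {p : ∀ i, Xi' i ⟶ Xi i} (sq : ∀ i, IsPullback (q i) (p i) a (g i))
    (h : IsFpqcCover Xi g) : IsFpqcCover Xi' q := by
  refine ⟨fun i => locP_baseChange (hXi i) hX hX' (sq i).flip (h.1 i), fun Z hZ φ => ?_⟩
  obtain ⟨m, W, c, hW, hf, hs, hl⟩ := h.2 Z hZ (φ ≫ a)
  refine ⟨m, W, c, hW, hf, hs, fun j => ?_⟩
  obtain ⟨i, l, hl⟩ := hl j
  exact ⟨i, (sq i).lift ((yon S).map (c j) ≫ φ) l (by rw [hl, Category.assoc]), (sq i).lift_fst _ _ _⟩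

/-- Composition of fpqc coverings. -/
theorem isFpqcCover_comp {ι : Type u} {κ : ι → Type u} {X : Sp S} {Xi : ι → Sp S} {Xij : ∀ i, κ i → Sp S}
    (hX : IsAlgSpace X) (hXi : ∀ i, IsAlgSpace (Xi i)) (hXij : ∀ i j, IsAlgSpace (Xij i j))
    {g : ∀ i, Xi i ⟶ X} {gij : ∀ i j, Xij i j ⟶ Xi i}
    (h : IsFpqcCover Xi g) (hij : ∀ i, IsFpqcCover (Xij i) (gij i)) :
    IsFpqcCover (fun r : Σ i, κ i => Xij r.1 r.2) (fun r => gij r.1 r.2 ≫ g r.1) := by
  refine ⟨fun r => locP_comp (hXij _ _) (hXi _) hX ((hij r.1).1 r.2) (h.1 r.1), fun Z hZ φ => ?_⟩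
  obtain ⟨m, W, c, hW, hf, hs, hl⟩ := h.2 Z hZ φ
  refine exists_refinement_trans (fun V d => ∃ (r : Σ i, κ i) (l : (yon S).obj V ⟶ Xij r.1 r.2),
    l ≫ gij r.1 r.2 ≫ g r.1 = (yon S).map d ≫ φ) hf hs fun j => ?_
  obtain ⟨i, l, hl⟩ := hl j
  obtain ⟨n, V, d, hV, hF, hS, hL⟩ := (hij i).2 (W j) (hW j) l
  refine ⟨n, V, d, hV, hF, hS, fun k => ?_⟩
  obtain ⟨t, e, he⟩ := hL k
  exact ⟨⟨i, t⟩, e, by rw [reassoc_of% he, hl, Functor.map_comp, Category.assoc]⟩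

/-- A covering that becomes fpqc over an etale chart is fpqc. -/
theorem isFpqcCover_of_chart {ι : Type u} {X : Sp S} (hX : IsAlgSpace X) {Xi Ui : ι → Sp S}
    (hXi : ∀ i, IsAlgSpace (Xi i)) {g : ∀ i, Xi i ⟶ X} {U : Over S} {p : (yon S).obj U ⟶ X}
    (hp : RepWith @Etale p) (hps : RepWith @Surjective p) {q : ∀ i, Ui i ⟶ (yon S).obj U}
    {p' : ∀ i, Ui i ⟶ Xi i} (sq : ∀ i, IsPullback (q i) (p' i) p (g i)) (h : IsFpqcCover Ui q) :
    IsFpqcCover Xi g := by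
  refine ⟨fun i => locP_of_target_chart (hXi i) hX hp hps (sq i).flip (h.1 i), fun Z hZ φ => ?_⟩
  obtain ⟨V, r, r', sqV⟩ := exists_isPullback hp.1 φ
  have hr : Etale r'.left := prop_snd sqV hp
  have hrs : Surjective r'.left := prop_snd sqV hps
  -- finitely many affine pieces of the pulled back chart
  have hcov : ∀ z : ↥Z.left, ∃ O : V.left.affineOpens, z ∈ r'.left '' (O.1 : Set V.left) := fun z => by
    obtain ⟨v, rfl⟩ := r'.left.surjective z
    obtain ⟨O, hO, hv, -⟩ := exists_isAffineOpen_mem_and_subset (X := V.left) (x := v) (U := ⊤) trivial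
    exact ⟨⟨O, hO⟩, v, hv, rfl⟩
  choose O hO using hcov
  obtain ⟨t, ht⟩ := isCompact_univ.elim_finite_subcover (fun z : ↥Z.left => r'.left '' ((O z).1 : Set V.left))
    (fun z => r'.left.isOpenMap _ (O z).1.2) (fun z _ => Set.mem_iUnion.2 ⟨z, hO z⟩)
  let W : Fin t.card → Over S := fun j => Over.mk ((O (t.equivFin.symm j)).1.ι ≫ V.hom)
  let e : ∀ j, W j ⟶ V := fun j => Over.homMk (O (t.equivFin.symm j)).1.ι rfl
  have hee : ∀ j, Flat (e j).left := fun j => inferInstanceAs (Flat (O (t.equivFin.symm j)).1.ι)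
  refine exists_refinement_trans (fun V' d => ∃ (i : ι) (l : (yon S).obj V' ⟶ Xi i),
    l ≫ g i = (yon S).map d ≫ φ) (W := W) (c := fun j => e j ≫ r') (fun j => ?_) (fun z => ?_) fun j => ?_
  · have := hee j
    rw [Over.comp_left]
    infer_instance
  · obtain ⟨z', hz', v, hv, rfl⟩ := Set.mem_iUnion₂.1 (ht (Set.mem_univ z))
    refine ⟨t.equivFin ⟨z', hz'⟩, ⟨v, ?_⟩, ?_⟩
    · show v ∈ (O (t.equivFin.symm (t.equivFin ⟨z', hz'⟩))).1
      rw [Equiv.symm_apply_apply]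
      exact hv
    · rfl
  · obtain ⟨n, V', d, hV', hF, hS, hL⟩ := h.2 (W j) (O (t.equivFin.symm j)).2 ((yon S).map (e j ≫ r))
    refine ⟨n, V', d, hV', hF, hS, fun k => ?_⟩
    obtain ⟨i, l, hl⟩ := hL k
    refine ⟨i, l ≫ p' i, ?_⟩
    rw [Category.assoc, ← (sq i).w, reassoc_of% hl]
    simp only [Functor.map_comp, Category.assoc, sqV.w]

end Groth.Agent.AlgSpLargestOpen
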