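import Groth.Agent.AlgSpLib.LocalST
import Groth.Agent.AlgSpLib.LocP

/-!
Equivalent conditions for properties smooth local on source and target.
-/

set_option autoImplicit false
set_option backward.isDefEq.respectTransparency.types false

universe u

open CategoryTheory CategoryTheory.Limits AlgebraicGeometry Opposite AlgSp

namespace Groth.Agent.AlgSpLargestOpen

open Groth.Agent.AlgSpLib

variable {S : Scheme.{u}} {P : MorphismProperty (Sp S)}

theorem smooth_iff_conditions (hP : IsSmoothLocalST P) {X Y : Space S} (f : X ⟶ Y) :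
    (P f.hom ↔ ∃ (U V : Space S) (a : U ⟶ X) (b : V ⟶ Y) (h : U ⟶ V),
      LocP @Smooth a.hom ∧ LocP @Smooth b.hom ∧ IsSurjectiveMor a.hom ∧ a ≫ f = h ≫ b ∧ P h.hom) ∧
    (P f.hom ↔ ∀ (U V W : Space S) (a : U ⟶ X) (b : V ⟶ Y) (h : U ⟶ V) (p : W ⟶ X) (q : W ⟶ V)
      (e : U ⟶ W), IsPullback p.hom q.hom f.hom b.hom → e ≫ p = a → e ≫ q = h →
      LocP @Smooth b.hom → LocP @Smooth e.hom → P h.hom) ∧
    (P f.hom ↔ ∃ (ι : Type u) (Yi Xi : ι → Space S) (g : ∀ i, Yi i ⟶ Y) (p : ∀ i, Xi i ⟶ Yi i)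
      (q : ∀ i, Xi i ⟶ X), IsSmCover (fun i => (Yi i).obj) (fun i => (g i).hom) ∧
      (∀ i, IsPullback (q i).hom (p i).hom f.hom (g i).hom) ∧ ∀ i, P (p i).hom) ∧
    (P f.hom ↔ ∃ (ι : Type u) (Xi : ι → Space S) (g : ∀ i, Xi i ⟶ X),
      IsSmCover (fun i => (Xi i).obj) (fun i => (g i).hom) ∧ ∀ i, P (g i ≫ f).hom) := by
  refine ⟨⟨fun hf => ?_, ?_⟩, ⟨fun hf U V W a b h p q e sq _ hh hb he => ?_, fun h => ?_⟩, ⟨fun hf => ?_, ?_⟩,
    ⟨fun hf => ?_, ?_⟩⟩
  · exact ⟨X, Y, 𝟙 X, 𝟙 Y, f, locP_smooth_id _, locP_smooth_id _, fun x => ⟨x, Points.map_id x⟩, by simp, hf⟩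
  · rintro ⟨U, V, a, b, h, ha, hb, hs, w, hh⟩
    refine (hP.locality X.property Y.property f.hom).2 fun x => ?_
    obtain ⟨v, hv⟩ := hs x
    exact ⟨U.obj, V.obj, a.hom, b.hom, h.hom, v, U.property, V.property, ha, hb,
      congrArg (fun m : U ⟶ Y => m.hom) w, hv, hh⟩
  · subst hh
    exact hP.precomp U.property W.property V.property e.hom q.hom he
      (hP.baseChange X.property Y.property W.property V.property f.hom b.hom q.hom p.hom sq hb hf)
  · exact h X Y X (𝟙 X) (𝟙 Y) f (𝟙 X) f (𝟙 X) (isPullback_id f.hom) (Category.comp_id _) (Category.id_comp f)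
      (locP_smooth_id _) (locP_smooth_id _)
  · exact ⟨PUnit, fun _ => Y, fun _ => X, fun _ => 𝟙 Y, fun _ => f, fun _ => 𝟙 X,
      ⟨fun _ => locP_smooth_id _, fun y => ⟨⟨⟩, y, Points.map_id y⟩⟩,
      fun _ => isPullback_id f.hom, fun _ => hf⟩
  · rintro ⟨ι, Yi, Xi, g, p, q, ⟨hg, hcov⟩, sq, hp⟩
    refine (hP.locality X.property Y.property f.hom).2 fun x => ?_
    obtain ⟨i, y, hy⟩ := hcov (Points.map f.hom x)
    obtain ⟨z, hz, -⟩ := exists_point_of_isPullback (sq i) x y hy.symm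
    exact ⟨(Xi i).obj, (Yi i).obj, (q i).hom, (g i).hom, (p i).hom, z, (Xi i).property, (Yi i).property,
      locP_baseChange (Yi i).property Y.property X.property (sq i).flip (hg i), hg i, (sq i).w, hz, hp i⟩
  · refine ⟨PUnit, fun _ => X, fun _ => 𝟙 X, ⟨fun _ => locP_smooth_id _, fun x => ⟨⟨⟩, x, Points.map_id x⟩⟩,
      fun _ => ?_⟩
    show P (𝟙 X.obj ≫ f.hom)
    rw [Category.id_comp]; exact hf
  · rintro ⟨ι, Xi, g, ⟨hg, hcov⟩, hh⟩
    refine (hP.locality X.property Y.property f.hom).2 fun x => ?_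
    obtain ⟨i, v, hv⟩ := hcov x
    exact ⟨(Xi i).obj, Y.obj, (g i).hom, 𝟙 _, (g i).hom ≫ f.hom, v, (Xi i).property, Y.property, hg i,
      locP_smooth_id _, (Category.comp_id _).symm, hv, hh i⟩

end Groth.Agent.AlgSpLargestOpen
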