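import Groth.Agent.AlgSpLib.LocPCover
import Groth.Agent.SourceLocal.Basic
import Groth.Prelude.Def_AlgSpCov
import Mathlib.AlgebraicGeometry.Sites.Fpqc

/-!
Properties of schemes local on the source induce properties of algebraic spaces local on the source.
-/

set_option autoImplicit false
set_option backward.isDefEq.respectTransparency.types false

universe u

open CategoryTheory CategoryTheory.Limits AlgebraicGeometry Opposite AlgSp

namespace Groth.Agent.AlgSpLargestOpen

open Groth.Agent.AlgSpLib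

variable {S : Scheme.{u}} {P : MorphismProperty Scheme.{u}}

/-- The general form of locality on the source of the chartwise property. -/
theorem isLocalOnSource_locP_general {Q : MorphismProperty Scheme.{u}} (τ : CovNotion S)
    (hτQ : ∀ ⦃ι : Type u⦄ ⦃X : Sp S⦄ (Xi : ι → Sp S) (g : ∀ i, Xi i ⟶ X), IsAlgSpace X → τ Xi g →
      ∀ i, LocP Q (g i))
    (hpre : ∀ ⦃U' U Y : Scheme.{u}⦄ (j : U' ⟶ U) (h : U ⟶ Y), Q j → P h → P (j ≫ h))
    (hsing : ∀ ⦃U' U Y : Scheme.{u}⦄ (j : U' ⟶ U) (h : U ⟶ Y), Etale j → Surjective j → P (j ≫ h) → P h)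
    (hcov : ∀ ⦃ι : Type u⦄ ⦃X : Sp S⦄ (Xi : ι → Sp S) (g : ∀ i, Xi i ⟶ X), IsAlgSpace X →
      (∀ i, IsAlgSpace (Xi i)) → τ Xi g → ∀ {U : Over S} (a : (yon S).obj U ⟶ X), RepWith @Etale a →
      ∀ (T : ι → Over S) (t : ∀ i, (yon S).obj (T i) ⟶ pullback (g i) a) (j : ∀ i, T i ⟶ U),
      (∀ i, RepWith @Etale (t i)) → (∀ i, RepWith @Surjective (t i)) →
      (∀ i, (yon S).map (j i) = t i ≫ pullback.snd (g i) a) → (∀ i, Q (j i).left) →
      ∀ {Y : Scheme.{u}} (h : U.left ⟶ Y), (∀ i, P ((j i).left ≫ h)) → P h) :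
    IsLocalOnSource τ (LocP P) := by
  intro ι X Xi g hX hXi hτ Y f hY
  have hg := hτQ Xi g hX hτ
  refine ⟨fun hf i U V a b h ha hb w => ?_, fun H U V a b h ha hb w => ?_⟩
  · let sq := IsPullback.of_hasPullback f b
    have hW := isAlgSpace_of_isPullback sq hX (IsAlgSpace.yon_obj V) hY
    obtain ⟨U₀, c, hc, hcs⟩ := hW.atlas
    obtain ⟨k, hk⟩ := (yon S).map_surjective (c ≫ pullback.snd f b)
    have hc' : RepWith @Etale (c ≫ pullback.fst f b) := repWith_comp hc (repWith_baseChange sq.flip hb)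
    have hPk : P k.left := hf _ b k hc' hb (by rw [Category.assoc, sq.w, hk, Category.assoc])
    let s := sq.lift (a ≫ g i) ((yon S).map h) (by rw [Category.assoc, w])
    obtain ⟨T, r, r', sqT⟩ := exists_isPullback hc.1 s
    have hr' : Etale r'.left := prop_snd sqT hc
    have hrs : Surjective r'.left := prop_snd sqT hcs
    have e : (yon S).map r ≫ c = (yon S).map r' ≫ s := sqT.w
    have hQr : Q r.left := hg i ((yon S).map r' ≫ a) (c ≫ pullback.fst f b) r (repWith_yon_comp r' hr' ha) hc' (by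
      rw [reassoc_of% e, sq.lift_fst, Category.assoc])
    have e' : r' ≫ h = r ≫ k := (yon S).map_injective (by
      rw [Functor.map_comp, Functor.map_comp, hk, reassoc_of% e, sq.lift_snd])
    refine hsing r'.left h.left hr' hrs ?_
    rw [← Over.comp_left, e', Over.comp_left]
    exact hpre _ _ hQr hPk
  · have key : ∀ i, ∃ (T : Over S) (t : (yon S).obj T ⟶ pullback (g i) a) (j : T ⟶ U),
        RepWith @Etale t ∧ RepWith @Surjective t ∧ (yon S).map j = t ≫ pullback.snd (g i) a := fun i => by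
      obtain ⟨T, t, ht, hts⟩ :=
        (isAlgSpace_of_isPullback (IsPullback.of_hasPullback (g i) a) (hXi i) (IsAlgSpace.yon_obj U) hX).atlas
      obtain ⟨j, hj⟩ := (yon S).map_surjective (t ≫ pullback.snd (g i) a)
      exact ⟨T, t, j, ht, hts, hj⟩
    choose T t j ht hts hj using key
    have ht' : ∀ i, RepWith @Etale (t i ≫ pullback.fst (g i) a) := fun i =>
      repWith_comp (ht i) (repWith_baseChange (IsPullback.of_hasPullback (g i) a).flip ha)
    have wj : ∀ i, (t i ≫ pullback.fst (g i) a) ≫ g i = (yon S).map (j i) ≫ a := fun i => by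
      rw [hj, Category.assoc, Category.assoc, pullback.condition]
    refine hcov Xi g hX hXi hτ a ha T t j ht hts hj (fun i => hg i _ a (j i) (ht' i) ha (wj i)) h.left fun i => ?_
    rw [← Over.comp_left]
    exact H i _ b (j i ≫ h) (ht' i) hb (by
      rw [← Category.assoc (t i ≫ _), wj i, Category.assoc, w, Functor.map_comp, Category.assoc])

/-- A point of the target of a covering lifts to an atlas of the pulled back covering. -/
theorem exists_mem_range_of_cover {ι : Type u} {X : Sp S} {Xi : ι → Sp S} {g : ∀ i, Xi i ⟶ X}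
    (hs : ∀ x : Points X, ∃ i, x ∈ Set.range (Points.map (g i))) {U : Over S} {a : (yon S).obj U ⟶ X}
    {T : ι → Over S} {t : ∀ i, (yon S).obj (T i) ⟶ pullback (g i) a} {j : ∀ i, T i ⟶ U}
    (hts : ∀ i, RepWith @Surjective (t i)) (hj : ∀ i, (yon S).map (j i) = t i ≫ pullback.snd (g i) a)
    (v : ↥U.left) : ∃ i, v ∈ Set.range (j i).left := by
  obtain ⟨i, y, hy⟩ := hs (Points.ofPt a v)
  obtain ⟨z, -, hz⟩ := exists_point_of_isPullback (IsPullback.of_hasPullback (g i) a) y (Points.ofPt (𝟙 _) v)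
    (by rw [hy, Points.map_ofPt, Category.id_comp])
  obtain ⟨w, rfl⟩ := surjective_ofPt (hts i) z
  refine ⟨i, w, (Points.schemeEquiv U).injective ?_⟩
  show Points.ofPt (𝟙 _) ((j i).left w) = Points.ofPt (𝟙 _) v
  rw [← ofPt_comp, Category.comp_id, hj, ← hz, Points.map_ofPt]

/-- Locality on the source for jointly surjective families with a property. -/
theorem isLocalOnSource_locP_of_precoverage (Q : MorphismProperty Scheme.{u}) [EtLocal Q]
    [P.IsLocalAtSource (Scheme.precoverage Q)] (T : MorphismProperty (Sp S))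
    (hT : ∀ ⦃F G : Sp S⦄ (g : F ⟶ G), IsAlgSpace G → T g → LocP Q g) :
    IsLocalOnSource (fun _ _ Y g => IsCover T Y g) (LocP P) := by
  have hid : ∀ A : Scheme.{u}, Q (𝟙 A) := fun A => EtLocal.of_etale _ inferInstance
  refine isLocalOnSource_locP_general (Q := Q) _ (fun _ _ _ g hX h i => hT _ hX (h.1 i))
    (fun _ _ _ j h hj hP => SourceLocal.precomp Q P hid j hj h hP)
    (fun U' U Y k h hk hks hP => SourceLocal.of_cover Q P (ι := PUnit) (fun _ => U') (fun _ => k)
      (fun _ => EtLocal.of_etale k hk) (fun x => ⟨⟨⟩, k.surjective x⟩) h fun _ => hP) ?_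
  intro ι X Xi g _ _ hτ U a _ T' t j _ hts hj hQ Y h hP
  exact SourceLocal.of_cover Q P (fun i => (T' i).left) (fun i => (j i).left) hQ
    (exists_mem_range_of_cover hτ.2 hts hj) h hP

/-- A compact set inside an open of a scheme has a compact open neighbourhood inside it. -/
theorem exists_compactOpen_between {T : Scheme.{u}} {K : Set T} (hK : IsCompact K) {O : Set T} (hO : IsOpen O)
    (h : K ⊆ O) : ∃ V : T.Opens, IsCompact (V : Set T) ∧ K ⊆ V ∧ (V : Set T) ⊆ O := by
  have hA : ∀ x : K, ∃ A : T.affineOpens, x.1 ∈ A.1 ∧ (A.1 : Set T) ⊆ O := fun x => by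
    obtain ⟨A, hA, hx, hle⟩ := exists_isAffineOpen_mem_and_subset (X := T) (U := ⟨O, hO⟩) (h x.2)
    exact ⟨⟨A, hA⟩, hx, hle⟩
  choose A hxA hAO using hA
  obtain ⟨s, hs⟩ := hK.elim_finite_subcover (fun x => ((A x).1 : Set T)) (fun x => (A x).1.2)
    (fun x hx => Set.mem_iUnion.2 ⟨⟨x, hx⟩, hxA _⟩)
  refine ⟨⟨⋃ x ∈ s, ((A x).1 : Set T), isOpen_biUnion fun x _ => (A x).1.2⟩,
    s.finite_toSet.isCompact_biUnion fun x _ => (A x).2.isCompact, hs, Set.iUnion₂_subset fun x _ => hAO x⟩

/-- The fpqc case. -/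
theorem isLocalOnSource_locP_fpqc [P.IsLocalAtSource Scheme.fpqcPrecoverage] :
    IsLocalOnSource (IsFpqcCover (S := S)) (LocP P) := by
  have of_qc : ∀ {U Y : Scheme.{u}} (E : PreZeroHypercover.{u} U), QuasiCompactCover E →
      (∀ i, Flat (E.f i)) → (∀ x : U, ∃ i, x ∈ Set.range (E.f i)) →
      E.presieve₀ ∈ Scheme.fpqcPrecoverage U := by
    intro U _ E hE hQ hs
    refine ⟨Scheme.presieve₀_mem_qcPrecoverage_iff.2 hE, ?_⟩
    rw [Scheme.presieve₀_mem_precoverage_iff]
    exact ⟨hs, hQ⟩
  refine isLocalOnSource_locP_general (Q := @Flat) _ (fun _ _ _ g _ h i => h.1 i) ?_ ?_ ?_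
  · intro U' U Y k h hk hP
    let E := (PreZeroHypercover.singleton.{u} k).sum (PreZeroHypercover.singleton.{u} (𝟙 U))
    have hE : QuasiCompactCover E := ⟨fun {O} hO =>
      IsCompactOpenCovered.of_finite (f := (E.f ·)) (κ := PUnit.{1}) (fun _ => Sum.inr ⟨⟩) (fun _ => O)
        (fun _ => hO.isCompact) (by
          change ⋃ _, (𝟙 U : U ⟶ U) '' (O : Set U) = O
          rw [Set.iUnion_const]
          ext x
          simp)⟩
    exact MorphismProperty.IsLocalAtSource.comp (P := P) (of_qc (Y := Y) E hE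
      (by rintro (_ | _); exacts [hk, (inferInstance : Flat (𝟙 U))]) fun x => ⟨Sum.inr ⟨⟩, x, rfl⟩) k
      (Presieve.ofArrows.mk (Y := E.X) (f := E.f) (Sum.inl ⟨⟩)) hP
  · intro U' U Y k h hk hks hP
    let E := PreZeroHypercover.singleton.{u} k
    have hE : QuasiCompactCover E := ⟨fun {O} hO => IsCompactOpenCovered.of_isOpenMap (f := (E.f ·))
      (fun _ => k.continuous) (fun _ => k.isOpenMap) (fun x _ => ⟨⟨⟩, k.surjective x⟩) O.2 hO.isCompact⟩
    refine MorphismProperty.IsLocalAtSource.of_forall_comp (P := P)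
      (of_qc (Y := Y) E hE (fun _ => (inferInstance : Flat k)) fun x => ⟨⟨⟩, k.surjective x⟩) fun V g hg => ?_
    cases hg with | mk i => exact hP
  · intro ι X Xi g hX hXi hτ U a ha T t j ht hts hj hQ Y h hP
    let E : PreZeroHypercover.{u} U.left := ⟨ι, fun i => (T i).left, fun i => (j i).left⟩
    have hE : QuasiCompactCover E := ⟨fun {O} hO => by
      let V' : Over S := Over.mk (O.ι ≫ U.hom)
      let e : V' ⟶ U := Over.homMk O.ι rfl
      obtain ⟨m, W, c, hW, -, hs, hl⟩ := hτ.2 V' hO ((yon S).map e ≫ a)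
      have piece : ∀ n : Fin m, ∃ (i : ι) (V : (T i).left.Opens), IsCompact (V : Set (T i).left) ∧
          (j i).left '' (V : Set (T i).left) ⊆ O ∧
          ∀ w, O.ι ((c n).left w) ∈ (j i).left '' (V : Set (T i).left) := by
        intro n
        obtain ⟨i, l, hl⟩ := hl n
        let L := pullback.lift (f := g i) (g := a) l ((yon S).map (c n ≫ e))
          (by rw [hl, Functor.map_comp, Category.assoc])
        obtain ⟨T', r, r', sqT⟩ := exists_isPullback (ht i).1 L
        have : Etale r'.left := prop_snd sqT (ht i)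
        have : Surjective r'.left := prop_snd sqT (hts i)
        have := hW n
        have ejL : r ≫ j i = r' ≫ c n ≫ e := (yon S).map_injective (by
          rw [Functor.map_comp, Functor.map_comp _ r', hj, reassoc_of% sqT.w, pullback.lift_snd])
        have ej : ∀ x, (j i).left (r.left x) = O.ι ((c n).left (r'.left x)) := fun x => by
          rw [← Scheme.Hom.comp_apply, ← Over.comp_left, ejL]
          rfl
        have hA : ∀ w : (W n).left, ∃ A : T'.left.affineOpens, w ∈ r'.left '' (A.1 : Set T'.left) := fun w => by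
          obtain ⟨x, rfl⟩ := r'.left.surjective w
          obtain ⟨A, hA, hx, -⟩ := exists_isAffineOpen_mem_and_subset (X := T'.left) (x := x) (U := ⊤) trivial
          exact ⟨⟨A, hA⟩, x, hx, rfl⟩
        choose A hwA using hA
        obtain ⟨s, hs'⟩ := isCompact_univ.elim_finite_subcover (fun w => r'.left '' ((A w).1 : Set T'.left))
          (fun w => r'.left.isOpenMap _ (A w).1.2) (fun w _ => Set.mem_iUnion.2 ⟨w, hwA w⟩)
        obtain ⟨V, hVc, hKV, hVO⟩ := exists_compactOpen_between
          ((s.finite_toSet.isCompact_biUnion fun w _ => (A w).2.isCompact).image r.left.continuous)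
          (O.2.preimage (j i).left.continuous)
          (K := r.left '' ⋃ w ∈ s, ((A w).1 : Set T'.left)) (by
            rintro _ ⟨x, -, rfl⟩
            show (j i).left (r.left x) ∈ O
            rw [ej]
            exact ((c n).left (r'.left x)).2)
        refine ⟨i, V, hVc, Set.image_subset_iff.2 hVO, fun w => ?_⟩
        obtain ⟨w', hw', x, hx, rfl⟩ := Set.mem_iUnion₂.1 (hs' (Set.mem_univ w))
        exact ⟨r.left x, hKV ⟨x, Set.mem_iUnion₂.2 ⟨w', hw', hx⟩, rfl⟩, ej x⟩
      choose i V hVc hVO hVw using piece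
      refine IsCompactOpenCovered.of_finite (f := (E.f ·)) (κ := Fin m) i V hVc
        (Set.Subset.antisymm (Set.iUnion_subset hVO) fun x hx => ?_)
      obtain ⟨n, w, hw⟩ := hs ⟨x, hx⟩
      refine Set.mem_iUnion.2 ⟨n, ?_⟩
      have := hVw n w
      rw [hw] at this
      exact this⟩
    refine MorphismProperty.IsLocalAtSource.of_forall_comp (P := P) (of_qc (Y := Y) E hE hQ
      (exists_mem_range_of_cover (surjective_of_isFpqcCover hτ) hts hj)) fun V g' hg' => ?_
    cases hg' with | mk i => exact hP i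

end Groth.Agent.AlgSpLargestOpen
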